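import Groth.Agent.Lib.MTRigid29.SubgrpLift
import Groth.Agent.Lib.MultType.Integral
import Groth.Agent.Lib.DiagGL.Chars
import Groth.Agent.Lib.TorsorSch25.Basic

/-! # Lifting homomorphisms from a diagonalisable group along nilpotent thickenings -/

set_option autoImplicit false
set_option linter.style.haveILetI false
set_option backward.isDefEq.respectTransparency.types false
set_option maxSynthPendingDepth 3
universe u

open CategoryTheory Limits MonoidalCategory CartesianMonoidalCategory MonObj AlgebraicGeometry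
open scoped TensorProduct

noncomputable section

namespace Groth.Agent.DiagLift19

open MTRigid29 DiagGL

variable {R : Type u} [CommRing R] (J : Ideal R) (M : Type) [AddCommGroup M]

theorem ev_comp_bcSpIso {A : Type u} [CommRing A] [Algebra R A] {T : Over (Spec (CommRingCat.of (R ⧸ J)))}
    (z : T ⟶ Red.bc (Spec.map (CommRingCat.ofHom (Ideal.Quotient.mk J))) (CoactBr.sp R A)) (a : A) :
    ev (z ≫ (bcSpIso J A).hom) ((1 : R ⧸ J) ⊗ₜ[R] a) =
      ev (R := R) (T := (Over.map (Spec.map (CommRingCat.ofHom (Ideal.Quotient.mk J)))).obj T)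
        (fl (Spec.map (CommRingCat.ofHom (Ideal.Quotient.mk J))) (CoactBr.sp R A) z) a := by
  let π : CommRingCat.of A ⟶ CommRingCat.of ((R ⧸ J) ⊗[R] A) :=
    CommRingCat.ofHom ((Algebra.TensorProduct.includeRight : A →ₐ[R] (R ⧸ J) ⊗[R] A) : A →+* (R ⧸ J) ⊗[R] A)
  have h0 : (fl (Spec.map (CommRingCat.ofHom (Ideal.Quotient.mk J))) (CoactBr.sp R A) z).left =
      (z.left ≫ (bcSpIso J A).hom.left) ≫ Spec.map π := by
    refine Eq.trans ?_ (Category.assoc _ _ _).symm
    refine Eq.trans ?_ (congrArg (z.left ≫ ·) (bcSpIso_fst J A)).symm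
    simp [fl, Adjunction.homEquiv_counit, Over.mapPullbackAdj]
    rfl
  show ((Scheme.ΓSpecIso _).inv ≫ (z.left ≫ (bcSpIso J A).hom.left).appTop).hom (π a) =
    ((Scheme.ΓSpecIso (CommRingCat.of A)).inv ≫ Scheme.Hom.appTop
      (fl (Spec.map (CommRingCat.ofHom (Ideal.Quotient.mk J))) (CoactBr.sp R A) z).left).hom a
  rw [h0]
  have h1 : (Scheme.ΓSpecIso (CommRingCat.of A)).inv ≫
      Scheme.Hom.appTop ((z.left ≫ (bcSpIso J A).hom.left) ≫ Spec.map π) =
      π ≫ (Scheme.ΓSpecIso (CommRingCat.of ((R ⧸ J) ⊗[R] A))).inv ≫ (z.left ≫ (bcSpIso J A).hom.left).appTop := by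
    erw [Scheme.Hom.comp_appTop, ← Category.assoc, ← Scheme.ΓSpecIso_inv_naturality π, Category.assoc]
  exact (ConcreteCategory.congr_hom h1 a).symm

theorem comul_glike (m : Multiplicative M) :
    Coalgebra.comul (R := R ⧸ J) ((1 : R ⧸ J) ⊗ₜ[R] MonoidAlgebra.of R (Multiplicative M) m) =
      ((1 : R ⧸ J) ⊗ₜ[R] MonoidAlgebra.of R (Multiplicative M) m) ⊗ₜ[R ⧸ J]
        ((1 : R ⧸ J) ⊗ₜ[R] MonoidAlgebra.of R (Multiplicative M) m) := by
  simp [TensorProduct.comul_def]

theorem isMonHom_bcSpIso :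
    IsMonHom (bcSpIso J (MonoidAlgebra R (Multiplicative M))).hom := by
  refine TorsorSch25.isMonHom_of_points _ fun T z z' => ev_injective fun b => ?_
  induction b using TensorProduct.induction_on with
  | zero => simp
  | add x y hx hy => simp only [map_add, hx, hy]
  | tmul t a =>
    induction a using MonoidAlgebra.induction_on with
    | of m =>
      have ht : t ⊗ₜ[R] MonoidAlgebra.of R (Multiplicative M) m = algebraMap (R ⧸ J) _ t *
          ((1 : R ⧸ J) ⊗ₜ[R] MonoidAlgebra.of R (Multiplicative M) m) := by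
        rw [Algebra.TensorProduct.algebraMap_apply, Algebra.TensorProduct.tmul_mul_tmul, _root_.mul_one, _root_.one_mul,
          Algebra.algebraMap_self_apply]
      rw [ht, map_mul, map_mul, ev_algebraMap, ev_algebraMap, ev_mul_glike _ _ (comul_glike J M m),
        ev_comp_bcSpIso, ev_comp_bcSpIso, ev_comp_bcSpIso, fl_mul]
      rw [ev_mul_glike (A := MonoidAlgebra R (Multiplicative M)) _ _ (by simp)]
    | add x y hx hy => simp only [TensorProduct.tmul_add, map_add, hx, hy]
    | smul r x hx =>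
      have hr : t ⊗ₜ[R] (r • x) = algebraMap (R ⧸ J) _ (Ideal.Quotient.mk J r) * (t ⊗ₜ[R] x) := by
        rw [TensorProduct.tmul_smul, ← algebraMap_smul (R ⧸ J) r (t ⊗ₜ[R] x), Algebra.smul_def]
        rfl
      rw [hr, map_mul, map_mul, hx, ev_algebraMap, ev_algebraMap]

set_option maxHeartbeats 1000000 in
theorem exists_lift (hJ : IsNilpotent J) (X : Over (Spec (CommRingCat.of R))) [GrpObj X] [Smooth X.hom]
    (f₀ : Red.bc (Spec.map (CommRingCat.ofHom (Ideal.Quotient.mk J))) (Red.diag R M) ⟶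
      Red.bc (Spec.map (CommRingCat.ofHom (Ideal.Quotient.mk J))) X) [IsMonHom f₀] :
    ∃ f : Red.diag R M ⟶ X, IsMonHom f ∧
      (Over.pullback (Spec.map (CommRingCat.ofHom (Ideal.Quotient.mk J)))).map f = f₀ := by
  haveI : IsMonHom (bcSpIso J (MonoidAlgebra R (Multiplicative M))).hom := isMonHom_bcSpIso J M
  let p₀ := bcSpIso J (MonoidAlgebra R (Multiplicative M))
  haveI : IsMonHom p₀.inv := inferInstance
  let idA : AA (MonoidAlgebra R (Multiplicative M)) J →ₐc[R ⧸ J] AA (MonoidAlgebra R (Multiplicative M)) J :=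
    BialgHom.id _ _
  let x : Pts X (AA (MonoidAlgebra R (Multiplicative M)) J) :=
    theta J f₀ _ (CoactBr.pt (idA : AA (MonoidAlgebra R (Multiplicative M)) J →ₐ[R ⧸ J] _) ≫ p₀.inv)
  obtain ⟨w, hw, hwx⟩ := exists_monHom_lift_smooth (MultTypeLib.isInt_coeffOne R (Multiplicative M))
    (Iso.refl (Grp.mk (CoactBr.sp R (MonoidAlgebra R (Multiplicative M))))) (inferInstance : Smooth X.hom) hJ x
    (isHom_theta J f₀ idA p₀.inv)
  refine ⟨w, hw, ?_⟩
  let π : MonoidAlgebra R (Multiplicative M) →+* AA (MonoidAlgebra R (Multiplicative M)) J :=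
    (Algebra.TensorProduct.includeRight : MonoidAlgebra R (Multiplicative M) →ₐ[R] AA (MonoidAlgebra R (Multiplicative M)) J)
  have hz : CoactBr.pt (idA : AA (MonoidAlgebra R (Multiplicative M)) J →ₐ[R ⧸ J] _) ≫ p₀.inv = p₀.inv := by
    rw [show (idA : AA (MonoidAlgebra R (Multiplicative M)) J →ₐ[R ⧸ J] _) = AlgHom.id _ _ from rfl, CoactBr.pt_id,
      Category.id_comp]
  have hleft : Spec.map (CommRingCat.ofHom π) ≫ w.left =
      p₀.inv.left ≫ f₀.left ≫ pullback.fst X.hom (Spec.map (CommRingCat.ofHom (Ideal.Quotient.mk J))) := by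
    rw [← theta_left]
    refine Eq.trans ?_ (Category.id_comp _)
    refine Eq.trans ?_ ((congrArg CommaMorphism.left hwx).trans ?_)
    · show Spec.map (CommRingCat.ofHom π) ≫ w.left = ((CoactBr.pt (gen J)).left ≫ 𝟙 _) ≫ w.left
      rw [Category.comp_id]
      rfl
    · show 𝟙 _ ≫ (fl _ X ((CoactBr.pt _ ≫ p₀.inv) ≫ f₀)).left = _
      rw [hz]
      rfl
  refine Over.OverMorphism.ext (pullback.hom_ext ?_ ?_)
  · refine Eq.trans ?_ ((congrArg (fun m => CommaMorphism.left m ≫ f₀.left ≫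
      pullback.fst X.hom (Spec.map (CommRingCat.ofHom (Ideal.Quotient.mk J)))) p₀.hom_inv_id).trans (Category.id_comp _))
    show _ = (p₀.hom.left ≫ p₀.inv.left) ≫ f₀.left ≫ pullback.fst _ _
    refine Eq.trans ?_ (Category.assoc _ _ _).symm
    refine Eq.trans ?_ (congrArg (p₀.hom.left ≫ ·) hleft)
    refine (pullback.lift_fst _ _ _).trans ?_
    refine Eq.trans ?_ (Category.assoc _ _ _)
    exact congrArg (· ≫ w.left) (bcSpIso_fst J _).symm
  · refine Eq.trans ?_ (Over.w f₀).symm
    exact Over.w ((Over.pullback (Spec.map (CommRingCat.ofHom (Ideal.Quotient.mk J)))).map w)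

end Groth.Agent.DiagLift19
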